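import Cfsg.Agent.Lib.TernaryGolay.Monomial
import Cfsg.Prelude.Def_KGroupFacts

/-!
The signed permutation group of the length-12 ternary code is a stem extension of M12 with kernel of
order 2.
-/

set_option autoImplicit false

namespace CfsgLib.TernaryGolay.DoubleCover

open Cfsg CfsgLib.TernaryGolay CfsgLib.TernaryGolay.Monomial Subgroup
open scoped Pointwise

/-- Vectors. -/
abbrev V : Type := ArrayPt → ZMod 3

/-- A permutation of the vectors that is a signed permutation preserving the code. -/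
def IsMono (F : Equiv.Perm V) : Prop :=
  ∃ (σ : Equiv.Perm ArrayPt) (c : ArrayPt → (ZMod 3)ˣ), (∀ x, F x = monomialMap σ c x) ∧
    ∀ x ∈ ternaryGolayCode, monomialMap σ c x ∈ ternaryGolayCode

theorem monomialMap_comp (σ τ : Equiv.Perm ArrayPt) (c d : ArrayPt → (ZMod 3)ˣ) (x : V) :
    monomialMap σ c (monomialMap τ d x) = monomialMap (σ * τ) (fun p => c p * d (σ.symm p)) x := by
  funext p
  simp only [monomialMap, Units.val_mul, mul_assoc]
  rfl

theorem isMono_one : IsMono 1 :=
  ⟨1, fun _ => 1, fun x => funext fun p => by simp only [monomialMap, Units.val_one, one_mul]; rfl,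
    fun x hx => by convert hx using 1; funext p; simp only [monomialMap, Units.val_one, one_mul]; rfl⟩

theorem IsMono.mul {F H : Equiv.Perm V} (hF : IsMono F) (hH : IsMono H) : IsMono (F * H) := by
  obtain ⟨σ, c, hσ, hc⟩ := hF
  obtain ⟨τ, d, hτ, hd⟩ := hH
  refine ⟨σ * τ, fun p => c p * d (σ.symm p), fun x => ?_, fun x hx => ?_⟩
  · rw [Equiv.Perm.mul_apply, hσ, hτ, monomialMap_comp]
  · rw [← monomialMap_comp]
    exact hc _ (hd x hx)

theorem IsMono.pow {F : Equiv.Perm V} (hF : IsMono F) : ∀ n : ℕ, IsMono (F ^ n)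
  | 0 => by rw [pow_zero]; exact isMono_one
  | n + 1 => by rw [pow_succ]; exact (hF.pow n).mul hF

/-- The signed permutations preserving the code. -/
def W : Subgroup (Equiv.Perm V) where
  carrier := {F | IsMono F}
  one_mem' := isMono_one
  mul_mem' := IsMono.mul
  inv_mem' := fun {F} hF => by
    have h : F⁻¹ = F ^ (orderOf F - 1) := inv_eq_of_mul_eq_one_left (by
      rw [← pow_succ, Nat.sub_add_cancel (orderOf_pos F), pow_orderOf_eq_one])
    rw [h]
    exact IsMono.pow hF _

theorem perm_unique {σ τ : Equiv.Perm ArrayPt} {c d : ArrayPt → (ZMod 3)ˣ}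
    (h : ∀ x : V, monomialMap σ c x = monomialMap τ d x) : σ = τ := by
  refine Equiv.ext fun q => ?_
  have h' := congrFun (h (Pi.single q 1)) (σ q)
  simp only [monomialMap, Equiv.symm_apply_apply, Pi.single_eq_same, mul_one] at h'
  by_contra hne
  have : τ.symm (σ q) ≠ q := fun e => hne (by rw [← Equiv.apply_symm_apply τ (σ q), e])
  rw [Pi.single_eq_of_ne this, mul_zero] at h'
  exact Units.ne_zero _ h'

theorem part_mem {σ : Equiv.Perm ArrayPt} {c : ArrayPt → (ZMod 3)ˣ}
    (hc : ∀ x ∈ ternaryGolayCode, monomialMap σ c x ∈ ternaryGolayCode) :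
    σ ∈ setSystemAut hexads := (isPart_iff σ).1 ⟨c, hc⟩

/-- The permutation part. -/
noncomputable def θ : W →* setSystemAut hexads :=
  MonoidHom.mk' (fun F => ⟨F.2.choose, part_mem F.2.choose_spec.choose_spec.2⟩) fun F H => by
    refine Subtype.ext (perm_unique (c := (F * H).2.choose_spec.choose)
      (d := fun p => F.2.choose_spec.choose p * H.2.choose_spec.choose (F.2.choose.symm p)) fun x => ?_)
    rw [← (F * H).2.choose_spec.choose_spec.1]
    show (F : Equiv.Perm V) ((H : Equiv.Perm V) x) = _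
    rw [F.2.choose_spec.choose_spec.1, H.2.choose_spec.choose_spec.1, monomialMap_comp]
    rfl

theorem θ_eq (F : W) {σ : Equiv.Perm ArrayPt} {c : ArrayPt → (ZMod 3)ˣ}
    (h : ∀ x, (F : Equiv.Perm V) x = monomialMap σ c x) : (θ F : Equiv.Perm ArrayPt) = σ :=
  perm_unique fun x => (F.2.choose_spec.choose_spec.1 x).symm.trans (h x)

/-- Sign change. -/
def negV : Equiv.Perm V := Equiv.neg V

theorem negV_mem : negV ∈ W :=
  ⟨1, fun _ => -1, fun x => funext fun p => by
      show -x p = ((-1 : (ZMod 3)ˣ) : ZMod 3) * x p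
      rw [Units.val_neg, Units.val_one, neg_one_mul],
    fun x hx => by
      convert neg_mem hx using 1
      funext p
      show ((-1 : (ZMod 3)ˣ) : ZMod 3) * x p = -x p
      rw [Units.val_neg, Units.val_one, neg_one_mul]⟩

theorem negV_ne : (⟨negV, negV_mem⟩ : W) ≠ 1 := fun e => by
  have := congrFun (Equiv.congr_fun (congrArg Subtype.val e) fun _ => 1) ((0, 0) : ArrayPt)
  exact absurd this (by decide +kernel)

theorem mem_ker {F : W} (h : θ F = 1) : F = 1 ∨ F = ⟨negV, negV_mem⟩ := by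
  obtain ⟨σ, c, hσ, hc⟩ := F.2
  have h1 : σ = 1 := by rw [← θ_eq F hσ, h]; rfl
  subst h1
  rcases sign_unique (d := c) (c := fun _ => 1) (fun x hx => by
      convert hx using 1; funext p; simp only [monomialMap, Units.val_one, one_mul]; rfl) hc
    with e | e
  · refine Or.inl (Subtype.ext (Equiv.ext fun x => (hσ x).trans ?_))
    subst e
    funext p
    simp only [monomialMap, Units.val_one, one_mul]
    rfl
  · refine Or.inr (Subtype.ext (Equiv.ext fun x => (hσ x).trans ?_))
    subst e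
    funext p
    show ((-(1 : (ZMod 3)ˣ) : (ZMod 3)ˣ) : ZMod 3) * x p = -x p
    rw [Units.val_neg, Units.val_one, neg_one_mul]

theorem negV_central (F : W) : F * ⟨negV, negV_mem⟩ = ⟨negV, negV_mem⟩ * F := by
  obtain ⟨σ, c, hσ, -⟩ := F.2
  refine Subtype.ext (Equiv.ext fun x => ?_)
  show (F : Equiv.Perm V) (-x) = -((F : Equiv.Perm V) x)
  rw [hσ, hσ]
  funext p
  simp [monomialMap]

theorem θ_negV : θ ⟨negV, negV_mem⟩ = 1 :=
  Subtype.ext (θ_eq ⟨negV, negV_mem⟩ (σ := 1) (c := fun _ => -1) fun x => funext fun p => by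
    show -x p = ((-1 : (ZMod 3)ˣ) : ZMod 3) * x p
    rw [Units.val_neg, Units.val_one, neg_one_mul])

theorem θ_surjective : Function.Surjective θ := fun σ => by
  obtain ⟨c, hc⟩ := (isPart_iff σ.1).2 σ.2
  let F : Equiv.Perm V := Equiv.ofBijective (monomialMap σ.1 c)
    (Finite.injective_iff_bijective.1 fun x y h => funext fun p => by
      have := congrFun h (σ.1 p)
      simpa [monomialMap] using this)
  exact ⟨⟨F, σ.1, c, fun _ => rfl, hc⟩, Subtype.ext (θ_eq _ fun _ => rfl)⟩

/-- An element of order 4 squaring to the sign change. -/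
def sqRoot : ℕ × ℕ × ℕ := (188323669287681, 188323669287681, 36426189181458)

theorem sqRoot_checks : (∀ p : ArrayPt, tabFun sqRoot.2.1 (tabFun sqRoot.1 p) = p ∧
      tabFun sqRoot.1 (tabFun sqRoot.2.1 p) = p) ∧
    (∀ k : Fin 6, check (fun p => (tabSign sqRoot.2.2 p : ZMod 3) * genTable k (pos (tabFun sqRoot.2.1 p)))) ∧
    (∀ p : ArrayPt, tabFun sqRoot.2.1 (tabFun sqRoot.2.1 p) = p) ∧
    ∀ p : ArrayPt, (tabSign sqRoot.2.2 p : ZMod 3) * (tabSign sqRoot.2.2 (tabFun sqRoot.2.1 p)) = -1 := by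
  decide +kernel

theorem exists_sq_eq_negV : ∃ F : W, F * F = ⟨negV, negV_mem⟩ := by
  obtain ⟨h1, h2, h3, h4⟩ := sqRoot_checks
  let σ : Equiv.Perm ArrayPt :=
    ⟨tabFun sqRoot.1, tabFun sqRoot.2.1, fun p => (h1 p).1, fun p => (h1 p).2⟩
  let c := tabSign sqRoot.2.2
  have hc : ∀ x ∈ ternaryGolayCode, monomialMap σ c x ∈ ternaryGolayCode := by
    intro x hx
    obtain ⟨a, rfl⟩ := mem_iff_exists.1 hx
    have heq : monomialMap σ c (word a) =
        ∑ k, a k • fun p => (tabSign sqRoot.2.2 p : ZMod 3) * genTable k (pos (tabFun sqRoot.2.1 p)) := by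
      funext p
      show (tabSign sqRoot.2.2 p : ZMod 3) * word a (tabFun sqRoot.2.1 p) = _
      rw [word_eq_sum]
      simp only [Finset.sum_apply, Pi.smul_apply, smul_eq_mul, Finset.mul_sum]
      exact Finset.sum_congr rfl fun k _ => mul_left_comm _ _ _
    rw [heq]
    exact sum_mem fun k _ => Submodule.smul_mem _ _ ((mem_code_iff _).2 (h2 k))
  let F : Equiv.Perm V := Equiv.ofBijective (monomialMap σ c)
    (Finite.injective_iff_bijective.1 fun x y h => funext fun p => by
      have := congrFun h (σ p)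
      simpa [monomialMap] using this)
  refine ⟨⟨F, σ, c, fun _ => rfl, hc⟩, Subtype.ext (Equiv.ext fun x => funext fun p => ?_)⟩
  show (c p : ZMod 3) * ((c (σ.symm p) : ZMod 3) * x (σ.symm (σ.symm p))) = -x p
  rw [← mul_assoc]
  show (tabSign sqRoot.2.2 p : ZMod 3) * (tabSign sqRoot.2.2 (tabFun sqRoot.2.1 p)) *
    x (tabFun sqRoot.2.1 (tabFun sqRoot.2.1 p)) = -x p
  rw [h3, h4, neg_one_mul]

theorem exists_stem : ∃ (Γ : Type) (_ : Group Γ) (_ : Finite Γ) (σ : Γ →* Spor.M12),
    Cfsg.IsStemExtension σ ∧ Nat.card σ.ker = 2 := by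
  obtain ⟨f, φ, -⟩ := Steiner.Witt12.exists_coord (α := ArrayPt) (by simp [ArrayPt]) hexads_steiner
  let σ : W →* Spor.M12 := φ.symm.toMonoidHom.comp θ
  have hker : ∀ F : W, F ∈ σ.ker ↔ θ F = 1 := fun F => by
    rw [MonoidHom.mem_ker]
    exact φ.symm.map_eq_one_iff
  have hsurj : Function.Surjective σ := φ.symm.surjective.comp θ_surjective
  have := Golay.isSimple_M12
  have hperf : _root_.commutator Spor.M12 = ⊤ := by
    refine (Subgroup.Normal.eq_bot_or_eq_top inferInstance).resolve_left fun h => ?_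
    rw [_root_.commutator_def, Subgroup.commutator_eq_bot_iff_le_centralizer] at h
    have hcomm : ∀ a b : Spor.M12, a * b = b * a := fun a b =>
      mem_centralizer_iff.1 (h (mem_top b)) a (mem_top a)
    let : CommGroup Spor.M12 :=
      { (inferInstance : Group Spor.M12) with mul_comm := hcomm }
    have hp := IsSimpleGroup.prime_card (α := Spor.M12)
    rw [Golay.card_M12] at hp
    norm_num at hp
  have hmap : (_root_.commutator W).map σ = ⊤ := by
    rw [_root_.commutator_def, map_commutator, map_top_of_surjective _ hsurj, ← _root_.commutator_def]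
    exact hperf
  have hN : (⟨negV, negV_mem⟩ : W) ∈ _root_.commutator W := by
    obtain ⟨F, hF⟩ := exists_sq_eq_negV
    obtain ⟨w, hw, hwF⟩ : σ F ∈ (_root_.commutator W).map σ := hmap ▸ mem_top _
    have hk : θ (w⁻¹ * F) = 1 := (hker _).1 (by rw [MonoidHom.mem_ker, map_mul, map_inv, hwF, inv_mul_cancel])
    rw [← hF]
    rcases mem_ker hk with e | e
    · rw [← inv_mul_eq_one.1 e]; exact mul_mem hw hw
    · have hFw : F = w * ⟨negV, negV_mem⟩ := by rw [← e]; group
      have hsq : (⟨negV, negV_mem⟩ : W) * ⟨negV, negV_mem⟩ = 1 :=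
        Subtype.ext (Equiv.ext fun x => neg_neg x)
      rw [hFw, show w * (⟨negV, negV_mem⟩ : W) * (w * ⟨negV, negV_mem⟩) =
        w * w * (⟨negV, negV_mem⟩ * ⟨negV, negV_mem⟩) by
          rw [mul_assoc w, ← mul_assoc (⟨negV, negV_mem⟩ : W) w, ← negV_central w]; group,
        hsq, mul_one]
      exact mul_mem hw hw
  refine ⟨W, inferInstance, inferInstance, σ, ⟨hsurj, fun F hF => ?_, fun F hF => ?_⟩, ?_⟩
  · rw [mem_center_iff]
    intro G
    rcases mem_ker ((hker F).1 hF) with rfl | rfl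
    · rw [mul_one, one_mul]
    · exact negV_central G
  · rcases mem_ker ((hker F).1 hF) with rfl | rfl
    exacts [one_mem _, hN]
  · refine Nat.card_eq_two_iff.2 ⟨⟨1, one_mem _⟩, ⟨⟨negV, negV_mem⟩, (hker _).2 θ_negV⟩,
      fun e => negV_ne (congrArg Subtype.val e).symm, Set.eq_univ_of_forall fun x => ?_⟩
    rcases mem_ker ((hker _).1 x.2) with e | e
    · exact Or.inl (Subtype.ext e)
    · exact Or.inr (Subtype.ext e)

end CfsgLib.TernaryGolay.DoubleCover
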