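import Cfsg.Prelude.Def_SporadicCombinatorics

/-!
The length-12 ternary code of `Cfsg.ternaryGolayCode`, parametrised by six information digits.
-/

set_option autoImplicit false

namespace CfsgLib.TernaryGolay

open Cfsg

/-- Position of an array cell in the list of the twelve cells, column by column. -/
def pos (p : ArrayPt) : Fin 12 := ⟨3 * p.1.val + p.2.val, by
  have h1 := p.1.isLt
  have h2 : p.2.val < 3 := ZMod.val_lt p.2
  omega⟩

/-- A generator matrix with information set `(0, 1, 2, 3, 4, 6)`. -/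
def genTable : Fin 6 → Fin 12 → ZMod 3 :=
  ![![1, 0, 0, 0, 0, 1, 0, 0, 1, 1, 1, 2],
   ![0, 1, 0, 0, 0, 1, 0, 2, 2, 2, 0, 2],
   ![0, 0, 1, 0, 0, 1, 0, 1, 0, 2, 1, 1],
   ![0, 0, 0, 1, 0, 2, 0, 2, 1, 2, 1, 0],
   ![0, 0, 0, 0, 1, 2, 0, 1, 2, 0, 1, 2],
   ![0, 0, 0, 0, 0, 0, 1, 1, 1, 2, 2, 2]]

/-- The twelve entries of the code word with information digits `a`. -/
def vec (a : Fin 6 → ZMod 3) : Fin 12 → ZMod 3 :=
  ![a 0,
    a 1,
    a 2,
    a 3,
    a 4,
    a 0 + a 1 + a 2 + 2 * a 3 + 2 * a 4,
    a 5,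
    2 * a 1 + a 2 + 2 * a 3 + a 4 + a 5,
    a 0 + 2 * a 1 + a 3 + 2 * a 4 + a 5,
    a 0 + 2 * a 1 + 2 * a 2 + 2 * a 3 + 2 * a 5,
    a 0 + a 2 + a 3 + a 4 + 2 * a 5,
    2 * a 0 + 2 * a 1 + a 2 + 2 * a 4 + 2 * a 5]

/-- The code word with information digits `a`. -/
def word (a : Fin 6 → ZMod 3) : ArrayPt → ZMod 3 := fun p => vec a (pos p)

/-- A residue modulo 3 as an element of `Fin 3`. -/
def f3 (x : ZMod 3) : Fin 3 := x

/-- The entries of `vec`, computed with the arithmetic of `Fin 3`. -/
def vecList (a : Fin 6 → ZMod 3) : List (Fin 3) :=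
  [f3 (a 0),
    f3 (a 1),
    f3 (a 2),
    f3 (a 3),
    f3 (a 4),
    f3 (a 0) + f3 (a 1) + f3 (a 2) + (2 : Fin 3) * f3 (a 3) + (2 : Fin 3) * f3 (a 4),
    f3 (a 5),
    (2 : Fin 3) * f3 (a 1) + f3 (a 2) + (2 : Fin 3) * f3 (a 3) + f3 (a 4) + f3 (a 5),
    f3 (a 0) + (2 : Fin 3) * f3 (a 1) + f3 (a 3) + (2 : Fin 3) * f3 (a 4) + f3 (a 5),
    f3 (a 0) + (2 : Fin 3) * f3 (a 1) + (2 : Fin 3) * f3 (a 2) + (2 : Fin 3) * f3 (a 3) + (2 : Fin 3) * f3 (a 5),
    f3 (a 0) + f3 (a 2) + f3 (a 3) + f3 (a 4) + (2 : Fin 3) * f3 (a 5),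
    (2 : Fin 3) * f3 (a 0) + (2 : Fin 3) * f3 (a 1) + f3 (a 2) + (2 : Fin 3) * f3 (a 4) + (2 : Fin 3) * f3 (a 5)]

/-- The Hamming weight of `word a`. -/
def wt (a : Fin 6 → ZMod 3) : ℕ := (vecList a).countP fun v => decide (v ≠ 0)

theorem vecList_eq (a : Fin 6 → ZMod 3) : vecList a = List.ofFn (vec a) := by
  simp only [List.ofFn_succ, List.ofFn_zero]
  rfl

theorem wt_eq (a : Fin 6 → ZMod 3) :
    wt a = (List.ofFn (vec a)).countP fun v => decide (v ≠ 0) := by
  rw [← vecList_eq]
  rfl

/-- The information digits as the ternary digits of a number below 729. -/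
def digits : Fin 729 ≃ (Fin 6 → ZMod 3) := (finFunctionFinEquiv (m := 3) (n := 6)).symm

theorem forall_digits {P : (Fin 6 → ZMod 3) → Prop} (h : ∀ n, P (digits n)) (a) : P a := by
  simpa using h (digits.symm a)

theorem word_eq_sum (a : Fin 6 → ZMod 3) : word a = ∑ k, a k • fun p => genTable k (pos p) := by
  funext p
  simp only [word, Finset.sum_apply, Pi.smul_apply, smul_eq_mul, Fin.sum_univ_six]
  generalize pos p = i
  fin_cases i <;> simp [vec, genTable] <;> ring

theorem card_support_word (a : Fin 6 → ZMod 3) : (ternarySupport (word a)).card = wt a := by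
  have hpos : Function.Bijective pos := by decide +kernel
  have h : ∀ l : List (ZMod 3), l.countP (fun v => decide (v ≠ 0))
      = (l.map fun v => if v ≠ 0 then 1 else 0).sum := by
    intro l
    induction l with
    | nil => rfl
    | cons x xs ih =>
      rw [List.countP_cons, List.map_cons, List.sum_cons, ih]
      by_cases hx : x = 0 <;> simp [hx, add_comm]
  rw [wt_eq]
  unfold ternarySupport
  rw [h, List.map_ofFn, List.sum_ofFn, Finset.card_filter]
  exact Function.Bijective.sum_comp hpos (fun i => if vec a i ≠ 0 then 1 else 0)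

/-- The six information cells. -/
def infoPt : Fin 6 → ArrayPt := ![(0, 0), (0, 1), (0, 2), (1, 0), (1, 1), (2, 0)]

/-- The information digits of a word. -/
def info (x : ArrayPt → ZMod 3) : Fin 6 → ZMod 3 := fun k => x (infoPt k)

/-- A word whose information digits vanish, given by its other six digits. -/
def offInfo (b : Fin 6 → ZMod 3) : ArrayPt → ZMod 3 := fun p =>
  ![0, 0, 0, 0, 0, b 0, 0, b 1, b 2, b 3, b 4, b 5] (pos p)

/-- The remaining six cells. -/
def restPt : Fin 6 → ArrayPt := ![(1, 2), (2, 1), (2, 2), (3, 0), (3, 1), (3, 2)]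

/-- The tetracode word with coefficients `a`, `b` on the two generators. -/
def tetWord (a b : ZMod 3) : Fin 4 → ZMod 3 := ![b, a, a + b, a + 2 * b]

theorem mem_tetracode_iff (t : Fin 4 → ZMod 3) : t ∈ tetracode ↔ ∃ a b, tetWord a b = t := by
  rw [tetracode, Submodule.mem_span_pair]
  refine exists_congr fun a => exists_congr fun b => ?_
  suffices h : a • ![0, 1, 1, 1] + b • ![1, 0, 1, 2] = tetWord a b by rw [h]
  revert a b
  decide +kernel

/-- Decidable form of the defining conditions. -/
def check (x : ArrayPt → ZMod 3) : Prop :=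
  ∃ s : ZMod 3, (∀ i : Fin 4, x (i, 0) + x (i, 1) + x (i, 2) = -s) ∧
    ∀ a b : ZMod 3, x (0, tetWord a b 0) + x (1, tetWord a b 1) + x (2, tetWord a b 2)
      + x (3, tetWord a b 3) = s

instance checkDecidable (x : ArrayPt → ZMod 3) : Decidable (check x) := by
  unfold check; infer_instance

theorem sum_zmod3 (f : ZMod 3 → ZMod 3) : ∑ r : ZMod 3, f r = f 0 + f 1 + f 2 :=
  Fin.sum_univ_three f

theorem mem_code_iff (x : ArrayPt → ZMod 3) : x ∈ ternaryGolayCode ↔ check x := by
  show IsTernaryGolayWord x ↔ _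
  unfold IsTernaryGolayWord check
  refine exists_congr fun s => and_congr (forall_congr' fun i => ?_) ?_
  · rw [sum_zmod3 (fun r => x (i, r))]
  · constructor
    · intro h a b
      rw [← Fin.sum_univ_four (fun i => x (i, tetWord a b i))]
      exact h _ ((mem_tetracode_iff _).2 ⟨a, b, rfl⟩)
    · intro h t ht
      obtain ⟨a, b, rfl⟩ := (mem_tetracode_iff t).1 ht
      rw [Fin.sum_univ_four]
      exact h a b

theorem word_mem (a : Fin 6 → ZMod 3) : word a ∈ ternaryGolayCode := by
  have h : ∀ k : Fin 6, check (fun p => genTable k (pos p)) := by decide +kernel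
  rw [word_eq_sum]
  exact sum_mem fun k _ => Submodule.smul_mem _ _ ((mem_code_iff _).2 (h k))

theorem info_word (a : Fin 6 → ZMod 3) : info (word a) = a := by
  funext k
  fin_cases k <;> rfl

theorem word_injective : Function.Injective word :=
  fun a b h => by rw [← info_word a, h, info_word]

theorem eq_zero_of_info {x : ArrayPt → ZMod 3} (hx : x ∈ ternaryGolayCode) (h : info x = 0) :
    x = 0 := by
  have key' : ∀ n : Fin 729, check (offInfo (digits n)) → n = 0 := by decide +kernel
  have key : ∀ b : Fin 6 → ZMod 3, check (offInfo b) → b = 0 :=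
    forall_digits fun n hn => by rw [key' n hn]; decide +kernel
  have cases12 : ∀ p : ArrayPt, (∃ k, infoPt k = p) ∨ ∃ k, restPt k = p := by decide +kernel
  have e1 : ∀ k, pos (infoPt k) = ![0, 1, 2, 3, 4, 6] k := by decide +kernel
  have e2 : ∀ k, pos (restPt k) = ![5, 7, 8, 9, 10, 11] k := by decide +kernel
  have hx' : offInfo (fun k => x (restPt k)) = x := by
    funext p
    rcases cases12 p with ⟨k, rfl⟩ | ⟨k, rfl⟩
    · have := congrFun h k
      simp only [info, Pi.zero_apply] at this
      rw [this]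
      unfold offInfo
      rw [e1]
      fin_cases k <;> rfl
    · unfold offInfo
      rw [e2]
      fin_cases k <;> rfl
  have := key _ ((mem_code_iff _).1 (hx'.symm ▸ hx))
  rw [← hx', this]
  have z : offInfo 0 = 0 := by decide +kernel
  exact z

theorem exists_word {x : ArrayPt → ZMod 3} (hx : x ∈ ternaryGolayCode) : word (info x) = x := by
  have h := eq_zero_of_info (sub_mem (word_mem (info x)) hx) (by
    funext k
    have := congrFun (info_word (info x)) k
    simp only [info, Pi.sub_apply, Pi.zero_apply] at this ⊢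
    rw [this, sub_self])
  exact sub_eq_zero.1 h

theorem mem_iff_exists {x : ArrayPt → ZMod 3} : x ∈ ternaryGolayCode ↔ ∃ a, word a = x :=
  ⟨fun h => ⟨_, exists_word h⟩, fun ⟨a, ha⟩ => ha ▸ word_mem a⟩

theorem natCard_code : Nat.card ternaryGolayCode = 729 := by
  rw [← Nat.card_congr (Equiv.ofBijective (fun a => (⟨word a, word_mem a⟩ : ternaryGolayCode))
    ⟨fun a b h => word_injective (congrArg Subtype.val h),
     fun x => ⟨info x.1, Subtype.ext (exists_word x.2)⟩⟩)]
  simp

theorem weight_cases {x : ArrayPt → ZMod 3} (hx : x ∈ ternaryGolayCode) (h0 : x ≠ 0) :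
    (ternarySupport x).card = 6 ∨ (ternarySupport x).card = 9 ∨ (ternarySupport x).card = 12 := by
  have h0' : ∀ n : Fin 729, n = 0 ∨ wt (digits n) = 6 ∨ wt (digits n) = 9 ∨ wt (digits n) = 12 := by
    decide +kernel
  have h : ∀ a : Fin 6 → ZMod 3, a = 0 ∨ wt a = 6 ∨ wt a = 9 ∨ wt a = 12 :=
    forall_digits fun n => (h0' n).imp_left fun e => by subst e; decide +kernel
  rcases h (info x) with h | h
  · exact absurd (eq_zero_of_info hx h) h0
  · rwa [← card_support_word, exists_word hx] at h

theorem ncard_weight (w : ℕ) :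
    {x : ArrayPt → ZMod 3 | x ∈ ternaryGolayCode ∧ (ternarySupport x).card = w}.ncard
      = (Finset.univ.filter fun a : Fin 6 → ZMod 3 => wt a = w).card := by
  simp only [← card_support_word]
  rw [← Set.ncard_coe_finset, ← Set.ncard_image_of_injective _ word_injective]
  congr 1
  ext x
  simp only [Set.mem_ofPred_eq, Set.mem_image, Finset.coe_filter, Finset.mem_univ, true_and]
  exact ⟨fun h => ⟨info x, by rw [exists_word h.1]; exact h.2, exists_word h.1⟩,
    fun ⟨a, ha, e⟩ => e ▸ ⟨word_mem a, ha⟩⟩

theorem count_digits (w : ℕ) :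
    (Finset.univ.filter fun a : Fin 6 → ZMod 3 => wt a = w).card
      = (Finset.univ.filter fun n : Fin 729 => wt (digits n) = w).card := by
  symm
  exact Finset.card_equiv digits (by simp)

theorem count_six :
    {x : ArrayPt → ZMod 3 | x ∈ ternaryGolayCode ∧ (ternarySupport x).card = 6}.ncard = 264 := by
  rw [ncard_weight, count_digits]; decide +kernel

theorem count_nine :
    {x : ArrayPt → ZMod 3 | x ∈ ternaryGolayCode ∧ (ternarySupport x).card = 9}.ncard = 440 := by
  rw [ncard_weight, count_digits]; decide +kernel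

theorem count_twelve :
    {x : ArrayPt → ZMod 3 | x ∈ ternaryGolayCode ∧ (ternarySupport x).card = 12}.ncard = 24 := by
  rw [ncard_weight, count_digits]; decide +kernel

theorem self_orthogonal {x y : ArrayPt → ZMod 3} (hx : x ∈ ternaryGolayCode)
    (hy : y ∈ ternaryGolayCode) : ∑ p, x p * y p = 0 := by
  have h : ∀ k l : Fin 6, ∑ p : ArrayPt, genTable k (pos p) * genTable l (pos p) = 0 := by
    decide +kernel
  rw [← exists_word hx, ← exists_word hy, word_eq_sum, word_eq_sum]
  simp only [Finset.sum_apply, Pi.smul_apply, smul_eq_mul, Finset.sum_mul, Finset.mul_sum]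
  rw [Finset.sum_comm]
  refine Finset.sum_eq_zero fun k _ => ?_
  rw [Finset.sum_comm]
  refine Finset.sum_eq_zero fun l _ => ?_
  rw [← mul_zero (info x l * info y k), ← h l k, Finset.mul_sum]
  exact Finset.sum_congr rfl fun p _ => by ring

/-- The hexads: supports of the weight six code words. -/
def hexads : Set (Finset ArrayPt) :=
  {h : Finset ArrayPt | ∃ x ∈ ternaryGolayCode, ternarySupport x = h ∧ h.card = 6}

theorem mem_support {x : ArrayPt → ZMod 3} {p : ArrayPt} : p ∈ ternarySupport x ↔ x p ≠ 0 := by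
  simp [ternarySupport]

theorem eq_or_neg {x y : ArrayPt → ZMod 3} (hx : x ∈ ternaryGolayCode) (hy : y ∈ ternaryGolayCode)
    {s : Finset ArrayPt} (hs : s.card = 5) (hsx : s ⊆ ternarySupport x)
    (hsy : s ⊆ ternarySupport y) (hwx : (ternarySupport x).card = 6)
    (hwy : (ternarySupport y).card = 6) : x = y ∨ x = -y := by
  have tri : ∀ a b : ZMod 3, a ≠ 0 → b ≠ 0 → (a + b = 0 ∧ a - b ≠ 0) ∨ (a + b ≠ 0 ∧ a - b = 0) := by
    decide
  let P := s.filter fun p => x p + y p ≠ 0
  let M := s.filter fun p => x p - y p ≠ 0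
  have hPM : P.card + M.card = 5 := by
    rw [← hs, ← Finset.card_filter_add_card_filter_not (s := s) (fun p => x p + y p ≠ 0)]
    congr 2
    refine Finset.filter_congr fun p hp => ?_
    have := tri _ _ (mem_support.1 (hsx hp)) (mem_support.1 (hsy hp))
    tauto
  have dx : (ternarySupport x \ s).card = 1 := by
    rw [Finset.card_sdiff_of_subset hsx, hwx, hs]
  have dy : (ternarySupport y \ s).card = 1 := by
    rw [Finset.card_sdiff_of_subset hsy, hwy, hs]
  have bound : ∀ (z : ArrayPt → ZMod 3) (Q : Finset ArrayPt), z ∈ ternaryGolayCode → Q.card ≤ 2 →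
      ternarySupport z ⊆ Q ∪ ((ternarySupport x \ s) ∪ (ternarySupport y \ s)) → z = 0 := by
    intro z Q hz hQ hsub
    by_contra h0
    have := Finset.card_le_card hsub
    have := Finset.card_union_le Q ((ternarySupport x \ s) ∪ (ternarySupport y \ s))
    have := Finset.card_union_le (ternarySupport x \ s) (ternarySupport y \ s)
    rcases weight_cases hz h0 with h | h | h <;> omega
  have out : ∀ p, p ∉ s → (x p = 0 ∧ y p = 0) ∨ p ∈ (ternarySupport x \ s) ∪ (ternarySupport y \ s) := by
    intro p hp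
    by_cases hx0 : x p = 0
    · by_cases hy0 : y p = 0
      · exact .inl ⟨hx0, hy0⟩
      · exact .inr (Finset.mem_union_right _ (Finset.mem_sdiff.2 ⟨mem_support.2 hy0, hp⟩))
    · exact .inr (Finset.mem_union_left _ (Finset.mem_sdiff.2 ⟨mem_support.2 hx0, hp⟩))
  rcases Nat.lt_or_ge 2 P.card with hP | hP
  · left
    refine sub_eq_zero.1 (bound (x - y) M (sub_mem hx hy) (by omega) fun p hp => ?_)
    have hp' := mem_support.1 hp
    by_cases hps : p ∈ s
    · exact Finset.mem_union_left _ (Finset.mem_filter.2 ⟨hps, hp'⟩)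
    · rcases out p hps with h | h
      · exact absurd (by simp [h.1, h.2]) hp'
      · exact Finset.mem_union_right _ h
  · right
    refine add_eq_zero_iff_eq_neg.1 (bound (x + y) P (add_mem hx hy) hP fun p hp => ?_)
    have hp' := mem_support.1 hp
    by_cases hps : p ∈ s
    · exact Finset.mem_union_left _ (Finset.mem_filter.2 ⟨hps, hp'⟩)
    · rcases out p hps with h | h
      · exact absurd (by simp [h.1, h.2]) hp'
      · exact Finset.mem_union_right _ h

theorem support_neg (x : ArrayPt → ZMod 3) : ternarySupport (-x) = ternarySupport x := by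
  ext p; simp [mem_support]

theorem hexad_unique {s h h' : Finset ArrayPt} (hs : s.card = 5) (hh : h ∈ hexads) (hsh : s ⊆ h)
    (hh' : h' ∈ hexads) (hsh' : s ⊆ h') : h = h' := by
  obtain ⟨x, hx, rfl, hwx⟩ := hh
  obtain ⟨y, hy, rfl, hwy⟩ := hh'
  rcases eq_or_neg hx hy hs hsh hsh' hwx hwy with e | e
  · rw [e]
  · rw [e, support_neg]

theorem ncard_hexads : hexads.ncard = 132 := by
  classical
  let W := Finset.univ.filter fun a : Fin 6 → ZMod 3 => (ternarySupport (word a)).card = 6
  have hW : W.card = 264 := by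
    have := count_six
    rw [ncard_weight] at this
    simp only [← card_support_word] at this
    exact this
  have himg : hexads = ↑(W.image fun a => ternarySupport (word a)) := by
    ext h
    simp only [hexads, Set.mem_ofPred_eq, Finset.coe_image, Set.mem_image, Finset.mem_coe, W,
      Finset.mem_filter, Finset.mem_univ, true_and]
    constructor
    · rintro ⟨x, hx, rfl, hw⟩
      exact ⟨info x, by rw [exists_word hx]; exact hw, by rw [exists_word hx]⟩
    · rintro ⟨a, ha, rfl⟩
      exact ⟨_, word_mem a, rfl, ha⟩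
  rw [himg, Set.ncard_coe_finset]
  have key := Finset.card_eq_sum_card_image (fun a => ternarySupport (word a)) W
  rw [hW, Finset.sum_const_nat (m := 2)] at key
  · omega
  · intro h hh
    obtain ⟨a, ha, rfl⟩ := Finset.mem_image.1 hh
    have hwa := (Finset.mem_filter.1 ha).2
    have hne : a ≠ -a := fun e => by
      have : a = 0 := funext fun k => by
        have hz : ∀ u : ZMod 3, u = -u → u = 0 := by decide
        exact hz _ (congrFun e k)
      subst this
      have : (ternarySupport (word 0)).card = 0 := by decide +kernel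
      omega
    have hneg : word (-a) = -word a := by
      simp [word_eq_sum]
    rw [Finset.card_eq_two]
    refine ⟨a, -a, hne, ?_⟩
    ext b
    simp only [Finset.mem_filter, Finset.mem_insert, Finset.mem_singleton]
    constructor
    · rintro ⟨hb, e⟩
      obtain ⟨s, hsub, hs⟩ := Finset.exists_subset_card_eq (s := ternarySupport (word a))
        (n := 5) (by omega)
      rcases eq_or_neg (word_mem b) (word_mem a) hs (by rw [e]; exact hsub) hsub
        (Finset.mem_filter.1 hb).2 hwa with r | r
      · exact .inl (word_injective r)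
      · exact .inr (word_injective (r.trans hneg.symm))
    · rintro (rfl | rfl)
      · exact ⟨ha, rfl⟩
      · refine ⟨Finset.mem_filter.2 ⟨Finset.mem_univ _, ?_⟩, ?_⟩ <;> rw [hneg, support_neg]
        exact hwa

theorem hexads_steiner : IsSteinerSystem 5 6 hexads := by
  classical
  refine ⟨fun b hb => by obtain ⟨x, _, _, h⟩ := hb; exact h, fun s hs => ?_⟩
  have hfin : hexads.Finite := Set.toFinite _
  have hHc : hfin.toFinset.card = 132 := (Set.ncard_eq_toFinset_card _ hfin).symm.trans ncard_hexads
  let P := hfin.toFinset.biUnion fun h => h.powersetCard 5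
  have hP : P.card = 792 := by
    rw [Finset.card_biUnion]
    · rw [Finset.sum_const_nat (m := 6), hHc]
      intro h hh
      obtain ⟨x, _, _, hw⟩ := hfin.mem_toFinset.1 hh
      rw [Finset.card_powersetCard, hw]; decide
    · intro h hh h' hh' hne
      rw [Function.onFun, Finset.disjoint_left]
      intro t ht ht'
      rw [Finset.mem_powersetCard] at ht ht'
      exact hne (hexad_unique ht.2 (hfin.mem_toFinset.1 hh) ht.1 (hfin.mem_toFinset.1 hh') ht'.1)
  have hall : P = (Finset.univ : Finset ArrayPt).powersetCard 5 := by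
    refine Finset.eq_of_subset_of_card_le (fun t ht => ?_) ?_
    · obtain ⟨h, _, ht⟩ := Finset.mem_biUnion.1 ht
      exact Finset.mem_powersetCard.2 ⟨Finset.subset_univ _, (Finset.mem_powersetCard.1 ht).2⟩
    · rw [hP, Finset.card_powersetCard, Finset.card_univ, Fintype.card_prod, Fintype.card_fin,
        ZMod.card]
      decide
  have hmem : s ∈ P := hall ▸ Finset.mem_powersetCard.2 ⟨Finset.subset_univ _, hs⟩
  obtain ⟨h, hh, hsh⟩ := Finset.mem_biUnion.1 hmem
  have hh' := hfin.mem_toFinset.1 hh
  have hsub := (Finset.mem_powersetCard.1 hsh).1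
  exact ⟨h, ⟨hh', hsub⟩, fun h' e => hexad_unique hs e.1 e.2 hh' hsub⟩

theorem sign_kernel (c : ArrayPt → (ZMod 3)ˣ)
    (h : ∀ x ∈ ternaryGolayCode, monomialMap 1 c x ∈ ternaryGolayCode) :
    (∀ p, c p = 1) ∨ (∀ p, c p = -1) := by
  classical
  suffices hk : ∀ p q, c p = c q by
    have : ∀ u : (ZMod 3)ˣ, u = 1 ∨ u = -1 := by decide +kernel
    rcases this (c (0, 0)) with e | e
    · exact .inl fun p => (hk p _).trans e
    · exact .inr fun p => (hk p _).trans e
  intro p q
  by_contra hne
  obtain ⟨s, hps, -, hs⟩ := Finset.exists_subsuperset_card_eq (Finset.subset_univ ({p, q} : Finset ArrayPt))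
    (n := 5) ((Finset.card_insert_le p {q}).trans (by simp)) (by simp)
  obtain ⟨hx, ⟨x, hxc, rfl, hw⟩, hsx⟩ := (hexads_steiner.2 s hs).exists
  have hp : x p ≠ 0 := mem_support.1 (hsx (hps (by simp)))
  have hq : x q ≠ 0 := mem_support.1 (hsx (hps (by simp)))
  let z : ArrayPt → ZMod 3 := monomialMap 1 c x - (c p : ZMod 3) • x
  have hz : z ∈ ternaryGolayCode := sub_mem (h x hxc) (Submodule.smul_mem _ _ hxc)
  have hzv : ∀ r, z r = ((c r : ZMod 3) - (c p : ZMod 3)) * x r := fun r => by
    simp [z, monomialMap, sub_mul, Equiv.Perm.one_def]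
  have hsub : ternarySupport z ⊆ ternarySupport x := fun r hr => by
    rw [mem_support, hzv] at hr
    exact mem_support.2 (right_ne_zero_of_mul hr)
  have hzq : z ≠ 0 := fun e => by
    have := congrFun e q
    rw [hzv, Pi.zero_apply, mul_eq_zero, sub_eq_zero] at this
    rcases this with e' | e'
    · exact hne (Units.ext e'.symm)
    · exact hq e'
  have hzp : p ∉ ternarySupport z := by simp [mem_support, hzv]
  have hlt := Finset.card_lt_card (Finset.ssubset_iff_of_subset hsub |>.2 ⟨p, mem_support.2 hp, hzp⟩)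
  rcases weight_cases hz hzq with e | e | e <;> omega

end CfsgLib.TernaryGolay
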