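import Cfsg.Agent.Lib.TernaryGolay.Basic
import Cfsg.Agent.Lib.Steiner.Witt12Aut

/-!
Signed permutations of the length-12 ternary code: fifty certificates giving five-fold transitivity.
-/

set_option autoImplicit false

namespace CfsgLib.TernaryGolay.Monomial

open Cfsg CfsgLib.TernaryGolay
open scoped Pointwise

/-- Permutations, their inverses and signs, packed four bits per position. -/
def table : List (ℕ × ℕ × ℕ) := [

  (205163983024656, 205163983024656, 18764998447377),
  (114875801285121, 114875801285121, 18764998447377),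
  (171143312191746, 186601419583521, 18764998447377),
  (203987229090051, 200838984500001, 36426189185553),
  (149235455697156, 167656838677281, 19937793020433),
  (188533650432261, 188465698652961, 37461008912913),
  (203028566319366, 203798352446241, 36361764737313),
  (111366534013191, 95138016215841, 37456696189473),
  (98289112523016, 129331828900641, 19864795291921),
  (134738834825481, 151774303765281, 37525685080353),
  (77607836262666, 106195122340641, 36430198939921),
  (163099914215691, 8479751947041, 18769562903073),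
  (205163983024656, 205163983024656, 18764998447377),
  (148896472117536, 148896472117536, 18764998447377),
  (183040958800176, 118230153958176, 36426189185553),
  (117199865061696, 134787001041696, 19937793020433),
  (167587380142416, 148135453475616, 37461008912913),
  (95969627808096, 113630368056096, 36361764737313),
  (186389881889136, 100781785563936, 37456696189473),
  (128339622961536, 164384360514336, 19864795291921),
  (82852190560656, 184818442388256, 37525685080353),
  (199520902390176, 195118630322976, 36430198939921),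
  (148040433476016, 27948870026016, 18769562903073),
  (205163983024656, 205163983024656, 18764998447377),
  (167926364906256, 167926364906256, 36426189185553),
  (135818296632336, 184072505803536, 19937793020433),
  (201938729903376, 203992259183376, 37461008912913),
  (152511949514256, 169717554103056, 36361764737313),
  (92816805144336, 97264529457936, 37456696189473),
  (165301675304976, 111817503752976, 19864795291921),
  (185219212847376, 135422825480976, 37525685080353),
  (115772311677456, 143646984323856, 36430198939921),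
  (76520923278096, 42435747726096, 18769562903073),
  (205163983024656, 205163983024656, 18764998447377),
  (147865428247056, 147865428247056, 18764998447377),
  (186605193351696, 171139535290896, 18764998447377),
  (199605510955536, 202694063505936, 18764998447649),
  (116911320035856, 99399427965456, 37529996894497),
  (96304787325456, 129277051159056, 37529996894737),
  (128266436579856, 115692283773456, 18764998447649),
  (82916315210256, 179793663050256, 37529996894737),
  (167424912765456, 61273455280656, 37529996894497),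
  (205163983024656, 205163983024656, 18764998447377),
  (132399770186256, 132399770186256, 18764998447377),
  (183942805598736, 153208536773136, 18764998447649),
  (80841396400656, 95285065495056, 37529996894497),
  (110731096240656, 164327252963856, 37529996894737),
  (153208536773136, 183942805598736, 18764998447649),
  (164327252963856, 110731096240656, 37529996894737),
  (95285065495056, 80841396400656, 37529996894497)]

/-- Digit `i` of a packed list. -/
def digit (n i : ℕ) : ℕ := n / 16 ^ i % 16

/-- The cell at position `i`. -/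
def cell (i : ℕ) : ArrayPt := (Fin.ofNat 4 (i / 3), ((i % 3 : ℕ) : ZMod 3))

/-- The map given by a packed list. -/
def tabFun (n : ℕ) (p : ArrayPt) : ArrayPt := cell (digit n (pos p).val)

/-- The sign given by a packed list. -/
def tabSign (n : ℕ) (p : ArrayPt) : (ZMod 3)ˣ := if digit n (pos p).val = 1 then 1 else -1

theorem table_inverse : ∀ e ∈ table, ∀ p : ArrayPt,
    tabFun e.2.1 (tabFun e.1 p) = p ∧ tabFun e.1 (tabFun e.2.1 p) = p := by
  decide +kernel

theorem table_preserves : ∀ e ∈ table, ∀ k : Fin 6,
    check (fun p => (tabSign e.2.2 p : ZMod 3) * genTable k (pos (tabFun e.2.1 p))) := by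
  decide +kernel

/-- The five base cells. -/
def base (i : Fin 5) : ArrayPt := cell i.val

theorem table_transversal : ∀ l : Fin 5, ∀ y : ArrayPt, (∀ j : Fin 5, j < l → y ≠ base j) →
    ∃ e ∈ table, (∀ j : Fin 5, j < l → tabFun e.1 (base j) = base j) ∧
      tabFun e.1 (base l) = y := by
  decide +kernel

/-- A permutation is the permutation part of a signed permutation preserving the code. -/
def IsPart (σ : Equiv.Perm ArrayPt) : Prop :=
  ∃ c : ArrayPt → (ZMod 3)ˣ, ∀ x ∈ ternaryGolayCode, monomialMap σ c x ∈ ternaryGolayCode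

theorem IsPart.mul {σ τ : Equiv.Perm ArrayPt} (hσ : IsPart σ) (hτ : IsPart τ) : IsPart (σ * τ) := by
  obtain ⟨c, hc⟩ := hσ
  obtain ⟨d, hd⟩ := hτ
  refine ⟨fun p => c p * d (σ.symm p), fun x hx => ?_⟩
  have h := hc _ (hd x hx)
  convert h using 1
  funext p
  simp only [monomialMap, Units.val_mul, mul_assoc]
  rfl

theorem isPart_entry {e : ℕ × ℕ × ℕ} (he : e ∈ table) :
    ∃ σ : Equiv.Perm ArrayPt, IsPart σ ∧ ∀ p, σ p = tabFun e.1 p := by
  let σ : Equiv.Perm ArrayPt :=
    ⟨tabFun e.1, tabFun e.2.1, fun p => (table_inverse e he p).1, fun p => (table_inverse e he p).2⟩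
  refine ⟨σ, ⟨tabSign e.2.2, fun x hx => ?_⟩, fun _ => rfl⟩
  obtain ⟨a, rfl⟩ := mem_iff_exists.1 hx
  have heq : monomialMap σ (tabSign e.2.2) (word a) =
      ∑ k, a k • fun p => (tabSign e.2.2 p : ZMod 3) * genTable k (pos (tabFun e.2.1 p)) := by
    funext p
    show (tabSign e.2.2 p : ZMod 3) * word a (tabFun e.2.1 p) = _
    rw [word_eq_sum]
    simp only [Finset.sum_apply, Pi.smul_apply, smul_eq_mul, Finset.mul_sum]
    exact Finset.sum_congr rfl fun k _ => mul_left_comm _ _ _
  rw [heq]
  exact sum_mem fun k _ => Submodule.smul_mem _ _ ((mem_code_iff _).2 (table_preserves e he k))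

theorem exists_part_map (x : Fin 5 ↪ ArrayPt) :
    ∃ σ, IsPart σ ∧ ∀ i, σ (base i) = x i := by
  suffices h : ∀ l : ℕ, l ≤ 5 → ∃ σ, IsPart σ ∧ ∀ i : Fin 5, i.val < l → σ (base i) = x i by
    obtain ⟨σ, hσ, hx⟩ := h 5 le_rfl
    exact ⟨σ, hσ, fun i => hx i i.isLt⟩
  intro l
  induction l with
  | zero =>
    exact fun _ => ⟨1, ⟨fun _ => 1, fun x hx => by
      convert hx using 1; funext p; simp only [monomialMap, Units.val_one, one_mul]; rfl⟩, fun i hi => absurd hi (Nat.not_lt_zero _)⟩
  | succ l ih =>
    intro hl
    obtain ⟨σ, hσ, hσx⟩ := ih (by omega)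
    obtain ⟨e, he, hfix, hlast⟩ := table_transversal ⟨l, hl⟩ (σ.symm (x ⟨l, hl⟩)) (fun j hj h => by
      have := congrArg σ h
      rw [Equiv.apply_symm_apply, hσx j hj] at this
      exact (ne_of_lt hj) (x.injective this).symm)
    obtain ⟨τ, hτ, hτf⟩ := isPart_entry he
    refine ⟨σ * τ, hσ.mul hτ, fun i hi => ?_⟩
    rw [Equiv.Perm.mul_apply, hτf]
    rcases Nat.lt_succ_iff_lt_or_eq.1 hi with hi' | hi'
    · rw [hfix i hi', hσx i hi']
    · obtain rfl : i = ⟨l, hl⟩ := Fin.ext hi'
      rw [hlast, Equiv.apply_symm_apply]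

theorem isPart_iff (σ : Equiv.Perm ArrayPt) : IsPart σ ↔ σ ∈ setSystemAut hexads := by
  have hfw : ∀ τ, IsPart τ → τ ∈ setSystemAut hexads := by
    rintro τ ⟨c, hc⟩
    rw [MulAction.mem_stabilizer_set']
    · rintro _ ⟨x, hx, rfl, hw⟩
      refine ⟨monomialMap τ c x, hc x hx, ?_, by rw [Finset.card_smul_finset, hw]⟩
      ext p
      rw [mem_support, ← Finset.inv_smul_mem_iff, mem_support, monomialMap,
        mul_ne_zero_iff, Equiv.Perm.smul_def, Equiv.Perm.inv_def]
      exact and_iff_right (Units.ne_zero _)
    · exact Set.toFinite _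
  refine ⟨hfw σ, fun hσ => ?_⟩
  have hb : Function.Injective base := by decide +kernel
  obtain ⟨τ, hτ, hτx⟩ := exists_part_map ⟨fun i => σ (base i), σ.injective.comp hb⟩
  have h1 := Steiner.Witt12.eq_one_of_five (g := τ⁻¹ * σ) (by simp [ArrayPt]) hexads_steiner
    (mul_mem (inv_mem (hfw τ hτ)) hσ) (s := Finset.univ.map ⟨base, hb⟩) (by simp) (fun p hp => by
      obtain ⟨i, -, rfl⟩ := Finset.mem_map.1 hp
      rw [Equiv.Perm.mul_apply, Equiv.Perm.inv_def, Equiv.symm_apply_eq]
      exact (hτx i).symm)
  rw [← inv_mul_eq_one.1 h1]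
  exact hτ

theorem sign_unique {σ : Equiv.Perm ArrayPt} {c d : ArrayPt → (ZMod 3)ˣ}
    (hc : ∀ x ∈ ternaryGolayCode, monomialMap σ c x ∈ ternaryGolayCode)
    (hd : ∀ x ∈ ternaryGolayCode, monomialMap σ d x ∈ ternaryGolayCode) :
    d = c ∨ d = -c := by
  have hinj : Function.Injective (monomialMap σ c) := fun x y h => funext fun p => by
    have := congrFun h (σ p)
    simpa [monomialMap] using this
  let f : ternaryGolayCode → ternaryGolayCode := fun x => ⟨monomialMap σ c x.1, hc x.1 x.2⟩
  have hf : Function.Surjective f :=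
    Finite.surjective_of_injective (fun x y h => Subtype.ext (hinj (congrArg Subtype.val h)))
  have hk : ∀ x ∈ ternaryGolayCode, monomialMap 1 (fun p => d p * (c p)⁻¹) x ∈ ternaryGolayCode := by
    intro x hx
    obtain ⟨⟨y, hy⟩, hyx⟩ := hf ⟨x, hx⟩
    have hyx' : monomialMap σ c y = x := congrArg Subtype.val hyx
    convert hd y hy using 1
    rw [← hyx']
    funext p
    show ((d p * (c p)⁻¹ : (ZMod 3)ˣ) : ZMod 3) * ((c p : ZMod 3) * y (σ.symm p)) =
      (d p : ZMod 3) * y (σ.symm p)
    rw [← mul_assoc, ← Units.val_mul, inv_mul_cancel_right]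
  rcases sign_kernel _ hk with h | h
  · exact Or.inl (funext fun p => mul_inv_eq_one.1 (h p))
  · refine Or.inr (funext fun p => ?_)
    have key : ∀ u v : (ZMod 3)ˣ, u * v⁻¹ = -1 → u = -v := by decide +kernel
    exact key _ _ (h p)

theorem monomial_facts :
    Nat.card {f : Equiv.Perm ArrayPt × (ArrayPt → (ZMod 3)ˣ) //
      (∀ x ∈ ternaryGolayCode, monomialMap f.1 f.2 x ∈ ternaryGolayCode)} = 190080 ∧
    {σ : Equiv.Perm ArrayPt | ∃ c : ArrayPt → (ZMod 3)ˣ,
      (∀ x ∈ ternaryGolayCode, monomialMap σ c x ∈ ternaryGolayCode)} =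
      (setSystemAut hexads : Set (Equiv.Perm ArrayPt)) := by
  refine ⟨?_, Set.ext fun σ => isPart_iff σ⟩
  have hM := (Steiner.Witt12.aut_facts (α := ArrayPt) (by simp [ArrayPt]) hexads_steiner).1.2
  choose c hc using fun σ : setSystemAut hexads => (isPart_iff σ.1).2 σ.2
  have hneg : ∀ (σ : Equiv.Perm ArrayPt) (d : ArrayPt → (ZMod 3)ˣ),
      (∀ x ∈ ternaryGolayCode, monomialMap σ d x ∈ ternaryGolayCode) →
      ∀ x ∈ ternaryGolayCode, monomialMap σ (-d) x ∈ ternaryGolayCode := fun σ d hd x hx => by
    convert neg_mem (hd x hx) using 1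
    funext p
    simp [monomialMap]
  let g : setSystemAut hexads × Bool → {f : Equiv.Perm ArrayPt × (ArrayPt → (ZMod 3)ˣ) //
      (∀ x ∈ ternaryGolayCode, monomialMap f.1 f.2 x ∈ ternaryGolayCode)} := fun q =>
    ⟨(q.1.1, if q.2 then c q.1 else -c q.1), by
      cases q.2
      · exact hneg _ _ (hc q.1)
      · exact hc q.1⟩
  have hg : Function.Bijective g := by
    refine ⟨fun p q h => ?_, fun f => ?_⟩
    · have h1 : p.1 = q.1 := Subtype.ext (congrArg (fun f => f.1.1) h)
      have h2 := congrArg (fun f => f.1.2 ((0, 0) : ArrayPt)) h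
      obtain ⟨σ, b⟩ := p
      obtain ⟨τ, b'⟩ := q
      dsimp only at h1
      subst h1
      have hne : ∀ u : (ZMod 3)ˣ, u ≠ -u := by decide +kernel
      refine Prod.ext rfl ?_
      cases b <;> cases b' <;> simp only [g] at h2 ⊢
      · exact absurd h2.symm (hne _)
      · exact absurd h2 (hne _)
    · obtain ⟨⟨σ, d⟩, hd⟩ := f
      have hσ : σ ∈ setSystemAut hexads := (isPart_iff σ).1 ⟨d, hd⟩
      rcases sign_unique (hc ⟨σ, hσ⟩) hd with h | h
      · exact ⟨(⟨σ, hσ⟩, true), Subtype.ext (Prod.ext rfl h.symm)⟩
      · exact ⟨(⟨σ, hσ⟩, false), Subtype.ext (Prod.ext rfl h.symm)⟩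
  rw [← Nat.card_congr (Equiv.ofBijective g hg), Nat.card_prod, hM, Nat.card_eq_fintype_card]
  rfl

end CfsgLib.TernaryGolay.Monomial
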